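import Mathlib

/-!
# Mates of squares of adjunctions and counits
-/

set_option autoImplicit false

open CategoryTheory

namespace Groth.Agent.FComplBc

universe v₁ v₂ v₃ v₄ u₁ u₂ u₃ u₄

variable {A : Type u₁} [Category.{v₁} A] {A' : Type u₂} [Category.{v₂} A'] {B : Type u₃} [Category.{v₃} B]
  {B' : Type u₄} [Category.{v₄} B']
  {aL : A ⥤ A'} {aR : A' ⥤ A} (a : aL ⊣ aR) {bL : B ⥤ A} {bR : A ⥤ B} (b : bL ⊣ bR)
  {cL : B' ⥤ A'} {cR : A' ⥤ B'} (c : cL ⊣ cR) {dL : B ⥤ B'} {dR : B' ⥤ B} (d : dL ⊣ dR)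
  (S : aR ⋙ bR ≅ cR ⋙ dR)

/-- The comparison of the two composite left adjoints. -/
noncomputable def sqL : dL ⋙ cL ≅ bL ⋙ aL :=
  (d.comp c).leftAdjointUniq ((b.comp a).ofNatIsoRight S)

/-- The base change map of the square. -/
noncomputable def sqBc (M : A) : dL.obj (bR.obj M) ⟶ cR.obj (aL.obj M) :=
  (d.homEquiv _ _).symm (bR.map (a.unit.app M) ≫ S.hom.app (aL.obj M))

theorem symm_sqBc (M : A) :
    (c.homEquiv _ _).symm (sqBc a d S M) = (sqL a b c d S).hom.app (bR.obj M) ≫ aL.map (b.counit.app M) := by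
  apply (c.homEquiv _ _).injective
  rw [Equiv.apply_symm_apply, sqBc]
  apply (d.homEquiv _ _).injective
  rw [Equiv.apply_symm_apply]
  have h1 : ∀ y : (bL ⋙ aL).obj (bR.obj M) ⟶ aL.obj M,
      d.homEquiv _ _ (c.homEquiv _ _ ((sqL a b c d S).hom.app (bR.obj M) ≫ y)) =
        (b.comp a).homEquiv _ _ y ≫ S.hom.app (aL.obj M) := by
    intro y
    have e : d.homEquiv _ _ (c.homEquiv _ _ ((sqL a b c d S).hom.app (bR.obj M) ≫ y)) =
        (d.comp c).homEquiv _ _ ((sqL a b c d S).hom.app (bR.obj M) ≫ y) := by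
      rw [Adjunction.comp_homEquiv]; rfl
    rw [e, sqL, Adjunction.homEquiv_naturality_right, Adjunction.homEquiv_leftAdjointUniq_hom_app]
    rw [← Adjunction.homEquiv_unit]
    simp only [Adjunction.ofNatIsoRight, Adjunction.homEquiv_unit, NatTrans.comp_app, Functor.whiskerLeft_app,
      Category.assoc]
    rw [← S.hom.naturality]
  rw [h1]
  congr 1
  rw [Adjunction.homEquiv_unit, Adjunction.comp_unit_app]
  simp only [Functor.comp_map, Category.assoc, ← Functor.map_comp]
  rw [show a.unit.app (bL.obj (bR.obj M)) ≫ aR.map (aL.map (b.counit.app M)) = b.counit.app M ≫ a.unit.app M from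
    (a.unit.naturality (b.counit.app M)).symm, Functor.map_comp, b.right_triangle_components_assoc]

theorem isIso_map_counit (M : A) [IsIso (c.counit.app (aL.obj M))] (h : IsIso (sqBc a d S M)) :
    IsIso (aL.map (b.counit.app M)) := by
  haveI : IsIso ((c.homEquiv _ _).symm (sqBc a d S M)) := by
    rw [Adjunction.homEquiv_counit]
    infer_instance
  rw [symm_sqBc a b c d S M] at this
  exact IsIso.of_isIso_comp_left ((sqL a b c d S).hom.app (bR.obj M)) _

theorem isIso_map_bc (M : A) [IsIso (c.counit.app (aL.obj M))] [IsIso (b.counit.app M)] :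
    IsIso (cL.map (sqBc a d S M)) := by
  haveI : IsIso ((c.homEquiv _ _).symm (sqBc a d S M)) := by
    rw [symm_sqBc a b c d S M]
    infer_instance
  rw [Adjunction.homEquiv_counit] at this
  exact IsIso.of_isIso_comp_right (cL.map (sqBc a d S M)) (c.counit.app (aL.obj M))

include a b c d S in
theorem isIso_map_transfer {X Y : B} (φ : X ⟶ Y) [IsIso (bL.map φ)] : IsIso (cL.map (dL.map φ)) := by
  have h := NatIso.naturality_2 (sqL a b c d S) φ
  rw [show cL.map (dL.map φ) = (dL ⋙ cL).map φ from rfl, ← h]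
  simp only [Functor.comp_map]
  infer_instance

theorem isIso_counit_of_right_iso {L₁ L₂ : B ⥤ A} {R₁ R₂ : A ⥤ B} (adj₁ : L₁ ⊣ R₁) (adj₂ : L₂ ⊣ R₂)
    (e : R₁ ≅ R₂) [∀ M, IsIso (adj₂.counit.app M)] (M : A) : IsIso (adj₁.counit.app M) := by
  haveI : IsIso adj₂.counit := NatIso.isIso_of_isIso_app _
  let ff := adj₂.fullyFaithfulROfIsIsoCounit.ofIso e.symm
  haveI := ff.full
  haveI := ff.faithful
  infer_instance

/-- A map between objects in the image of a fully faithful right adjoint is invertible if its inverse image is. -/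
theorem isIso_of_isIso_map {X Y : B} {G₁ G₂ : A} (eX : X ≅ bR.obj G₁) (eY : Y ≅ bR.obj G₂)
    [∀ M, IsIso (b.counit.app M)] (T : X ⟶ Y) [IsIso (bL.map T)] : IsIso T := by
  haveI : IsIso b.counit := NatIso.isIso_of_isIso_app _
  let ff := b.fullyFaithfulROfIsIsoCounit
  let φ := ff.preimage (eX.inv ≫ T ≫ eY.hom)
  have hφ : bR.map φ = eX.inv ≫ T ≫ eY.hom := ff.map_preimage _
  haveI : IsIso (bL.map (bR.map φ)) := by
    rw [hφ, bL.map_comp, bL.map_comp]
    infer_instance
  haveI : IsIso φ := by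
    have := b.counit.naturality φ
    haveI : IsIso (b.counit.app G₁ ≫ φ) := by
      rw [show b.counit.app G₁ ≫ φ = bL.map (bR.map φ) ≫ b.counit.app G₂ from this.symm]
      infer_instance
    exact IsIso.of_isIso_comp_left (b.counit.app G₁) φ
  rw [show T = eX.hom ≫ bR.map φ ≫ eY.inv by simp [hφ]]
  infer_instance

end Groth.Agent.FComplBc
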