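import Groth.Agent.FRelLib.Eta
import Groth.Agent.S3857
import Groth.Agent.IdealStalkLib.Comap

/-!
# The ideals of definition of an adic affine morphism
-/

set_option autoImplicit false
set_option linter.style.haveILetI false
set_option linter.unusedVariables false
set_option backward.isDefEq.respectTransparency false
set_option backward.isDefEq.respectTransparency.types false
set_option maxHeartbeats 1000000
universe u

open CategoryTheory CategoryTheory.Limits AlgebraicGeometry TopologicalSpace Opposite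

noncomputable section

namespace Groth.Agent.FComplBc

open Groth.Agent.FCompl Groth.Agent.FRel

variable {𝔛 𝔜 : FSch.Sys.{u}} {h : 𝔛.IsFormal} {h' : 𝔜.IsFormal}

/-- The map of a level on sections. -/
def lvl (f : 𝔛 ⟶ 𝔜) (V : (𝔜.X 0).Opens) (n : ℕ) : LR 𝔜 h' V n →+* LR 𝔛 h (preV f V) n :=
  (((f : FSch.Hom 𝔛 𝔜).app n).appLE (𝔜.lvU h' n V) (𝔛.lvU h n (preV f V))
    (FSch.Hom.lvU_preimage f h h' n V).ge).hom

lemma pr_shV (f : 𝔛 ⟶ 𝔜) (V : (𝔜.X 0).Opens) (n : ℕ) (a : OR 𝔜 h' V) :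
    pr 𝔛 h (preV f V) n (shV h h' f V a) =
      lvl (h := h) (h' := h') f V n (pr 𝔜 h' V n a) := by
  have e0 : pr 𝔛 h (preV f V) n (shV h h' f V a) =
      (((f : FSch.Hom 𝔛 𝔜).app n).appLE (𝔜.lvU h' n V) (𝔛.lvU h n (preV f V))
        (FSch.Hom.lvU_preimage f h h' n V).ge).hom (pr 𝔜 h' V n a) :=
    congr($(FSch.Hom.sharp_proj f h h' n).hom.app (op V) a)
  unfold lvl
  exact e0

lemma comp_shV (f : 𝔛 ⟶ 𝔜) (V : (𝔜.X 0).Opens) (n : ℕ) :
    (pr 𝔛 h (preV f V) n).comp (shV h h' f V) = (lvl (h := h) (h' := h') f V n).comp (pr 𝔜 h' V n) :=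
  RingHom.ext fun a => by
    rw [RingHom.comp_apply, RingHom.comp_apply]
    exact pr_shV f V n a

/-- An adic affine morphism carries the ideal of definition onto the ideal of definition. -/
theorem II_map_adic (hL : 𝔛.IsLocNoethFormal) (hL' : 𝔜.IsLocNoethFormal) (f : 𝔛 ⟶ 𝔜) (hf : FSch.IsAdicHom f)
    {V : (𝔜.X 0).Opens} (hV : IsAffineOpen V) (hV' : IsAffineOpen (preV f V)) :
    (II 𝔜 h' V).map (shV h h' f V) = II 𝔛 h (preV f V) := by
  refine le_antisymm (Ideal.map_le_iff_le_comap.2 fun a ha => ?_) ?_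
  · show pr 𝔛 h (preV f V) 0 (shV h h' f V a) = 0
    rw [pr_shV, show pr 𝔜 h' V 0 a = 0 from ha, map_zero]
  let J := (II 𝔜 h' V).map (shV h h' f V)
  haveI := FCompl.noetherian (h := h) hL hV'
  refine Submodule.le_of_le_smul_of_le_jacobson_bot (IsNoetherian.noetherian (II 𝔛 h (preV f V)))
    (II_le_jacobson (h := h) hL hV') ?_
  intro x hx
  let ψ := lvl (h := h) (h' := h') f V 1
  -- the cartesian square at the first two levels
  have hker : RingHom.ker (tr 𝔛 h (preV f V) 0) = (RingHom.ker (tr 𝔜 h' V 0)).map ψ := by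
    haveI := (h' 0).1
    haveI := (h 0).1
    have e := congrArg (fun I => Scheme.IdealSheafData.ideal I
      (⟨𝔛.lvU h 1 (preV f V), affine_lvU (h := h) hV' 1⟩ : (𝔛.X 1).affineOpens)) (S3857.ker_of_isPullback (hf 0)).2
    simp only [IdealStalkLib.comap_ideal _ _ (affine_lvU (h := h') hV 1) (affine_lvU (h := h) hV' 1)
      (FSch.Hom.lvU_preimage f h h' 1 V).ge, Scheme.Hom.ker_apply] at e
    rw [tr, tr, ker_appLE _ _ _ _ (𝔛.lvU_succ h 0 (preV f V)), ker_appLE _ _ _ _ (𝔜.lvU_succ h' 0 V)]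
    exact e
  have hS : RingHom.ker (tr 𝔜 h' V 0) = (II 𝔜 h' V).map (pr 𝔜 h' V 1) := by
    rw [II, show RingHom.ker (pr 𝔜 h' V 0) = (RingHom.ker (tr 𝔜 h' V 0)).comap (pr 𝔜 h' V 1) from
      Ideal.ext fun z => by simp only [Ideal.mem_comap, RingHom.mem_ker, tr_pr],
      Ideal.map_comap_of_surjective _ (pr_surjective hL' hV 1)]
  have h1 : pr 𝔛 h (preV f V) 1 x ∈ J.map (pr 𝔛 h (preV f V) 1) := by
    have hle : pr 𝔛 h (preV f V) 1 x ∈ RingHom.ker (tr 𝔛 h (preV f V) 0) := by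
      rw [RingHom.mem_ker, tr_pr]; exact hx
    rw [hker, hS, Ideal.map_map] at hle
    rw [Ideal.map_map]
    rw [comp_shV f V 1]
    exact hle
  obtain ⟨y, hy, hyx⟩ := (Ideal.mem_map_iff_of_surjective _ (pr_surjective hL hV' 1)).1 h1
  have h2 : x - y ∈ II 𝔛 h (preV f V) • II 𝔛 h (preV f V) := by
    rw [smul_eq_mul, ← pow_two, ← ker_pr (h := h) hL hV' 1, RingHom.mem_ker, map_sub, hyx, sub_self]
  rw [← add_sub_cancel y x]
  exact add_mem (Submodule.mem_sup_left hy) (Submodule.mem_sup_right h2)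

end Groth.Agent.FComplBc
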