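import Groth.Agent.FComplBcLib.Ideal
import Groth.Agent.FComplBcLib.Adj
import Groth.Agent.FRelLib.RpushD
import Groth.Agent.FComplLib.PullReal
import Groth.Agent.FComplLib.Realize
import Groth.Agent.FComplLib.GlobalPres
import Groth.Agent.S12131

/-!
# Direct images along adic affine morphisms and restriction to the levels
-/

set_option autoImplicit false
set_option linter.style.haveILetI false
set_option linter.unusedVariables false
set_option backward.isDefEq.respectTransparency false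
set_option backward.isDefEq.respectTransparency.types false
set_option maxHeartbeats 1000000
universe u

open CategoryTheory CategoryTheory.Limits AlgebraicGeometry TopologicalSpace Opposite

noncomputable section

namespace Groth.Agent.FComplBc

open Groth.Agent.FCompl Groth.Agent.FRel

variable {𝔛 𝔜 : FSch.Sys.{u}} {h : 𝔛.IsFormal} {h' : 𝔜.IsFormal}

/-- Direct images of coherent modules along proper morphisms are coherent. -/
theorem coh_push (hL : 𝔛.IsLocNoethFormal) (hL' : 𝔜.IsLocNoethFormal) (f : 𝔛 ⟶ 𝔜) (hp : FSch.IsProperHom f)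
    {M : FSch.ModF 𝔛 h} (hM : FSch.IsCohF 𝔛 h M) : FSch.IsCohF 𝔜 h' ((FSch.pushF f h h').obj M) := by
  haveI : IsGrothendieckAbelian.{u} (FSch.ModF 𝔛 h) := ModTensor.isGrothendieckAbelian_mod (𝔛.Osh h)
  haveI : HasInjectiveResolutions (FSch.ModF 𝔛 h) := inferInstance
  have H : FSch.IsCohF 𝔜 h' ((FSch.RpushF f h h' 0).obj M) :=
    isCohF_of_affine _ fun V hV => FRel.hasRels_rpushF (h' := h') f hp hL hL' hM 0 hV
  exact (SheafOfModules.isFinitePresentation (ModSite.ringSh (𝔜.Osh h'))).prop_of_iso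
    ((rpushFZeroIso (h := h) (h' := h') f).app M) H

lemma unit_smul {𝔉 : FSch.ModF 𝔛 h} (k : ℕ) (U : (𝔛.X 0).Opens) (a : OR 𝔛 h U) (ha : pr 𝔛 h U k a = 0)
    (t : 𝔉.val.obj (op U)) :
    (((FSch.levelMor 𝔛 h k).adj.unit.app 𝔉).val.app (op U)).hom (a • t) = 0 := by
  refine (map_smul _ a t).trans ?_
  show pr 𝔛 h U k a • (show LM h (sysOf 𝔉) U k from (((FSch.levelMor 𝔛 h k).adj.unit.app 𝔉).val.app (op U)).hom t) = 0
  rw [ha, zero_smul]

/-- A map from a coherent module to a level with the expected sections on affines is the restriction to the level. -/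
theorem isIso_symm_of_sections (hL : 𝔛.IsLocNoethFormal) {𝔉 : FSch.ModF 𝔛 h} (h𝔉 : FSch.IsCohF 𝔛 h 𝔉) (k : ℕ)
    (G : (𝔛.X k).Modules) (ψ : 𝔉 ⟶ (FSch.levelMor 𝔛 h k).push.obj G)
    (H : ∀ V : (𝔛.X 0).Opens, IsAffineOpen V → Function.Surjective (ψ.val.app (op V)).hom ∧
      ∀ x : 𝔉.val.obj (op V), (ψ.val.app (op V)).hom x = 0 →
        x ∈ II 𝔛 h V ^ (k + 1) • (⊤ : Submodule (OR 𝔛 h V) (𝔉.val.obj (op V)))) :
    IsIso (((FSch.levelMor 𝔛 h k).adj.homEquiv _ _).symm ψ) := by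
  let φ : (sysOf 𝔉).F k ⟶ G := ((FSch.levelMor 𝔛 h k).adj.homEquiv _ _).symm ψ
  let η := (FSch.levelMor 𝔛 h k).adj.unit.app 𝔉
  have hφ : η ≫ (FSch.levelMor 𝔛 h k).push.map φ = ψ := by
    rw [show η ≫ (FSch.levelMor 𝔛 h k).push.map φ = (FSch.levelMor 𝔛 h k).adj.homEquiv _ _ φ from
      ((FSch.levelMor 𝔛 h k).adj.homEquiv_unit _ _ _).symm]
    exact Equiv.apply_symm_apply _ _
  have happ : ∀ (V : (𝔛.X 0).Opens) (x : 𝔉.val.obj (op V)),
      φ.app (𝔛.lvU h k V) ((η.val.app (op V)).hom x) = (ψ.val.app (op V)).hom x := fun V x =>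
    congr(($hφ).val.app (op V) x)
  haveI := eps_isIso hL h𝔉
  have key : ∀ V : (𝔛.X 0).Opens, IsAffineOpen V → Function.Bijective (φ.app (𝔛.lvU h k V)) := by
    intro V hV
    have hsurj : ∀ y : LM h (sysOf 𝔉) V k, ∃ x : 𝔉.val.obj (op V), (η.val.app (op V)).hom x = y := by
      intro y
      obtain ⟨z, hz⟩ := ((mod_main (h := h) (sysOf 𝔉) hL (sysOf_isCoh 𝔉 h𝔉) hV).2 k).1 y
      refine ⟨((inv (eps 𝔉)).val.app (op V)).hom z, ?_⟩
      rw [← hz, ← pm_eps]
      exact congrArg (pm h (sysOf 𝔉) V k) (congr(($(IsIso.inv_hom_id (eps 𝔉))).val.app (op V) z))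
    refine ⟨(injective_iff_map_eq_zero _).2 fun y hy => ?_, fun g => ?_⟩
    · obtain ⟨x, rfl⟩ := hsurj y
      rw [happ] at hy
      refine Submodule.smul_induction_on (p := fun t => (η.val.app (op V)).hom t = 0) ((H V hV).2 x hy)
        (fun a ha t _ => unit_smul k V a ?_ t) fun a b ha hb => by rw [map_add, ha, hb, add_zero]
      rw [← ker_pr hL hV k, RingHom.mem_ker] at ha
      exact ha
    · obtain ⟨x, rfl⟩ := (H V hV).1 g
      exact ⟨(η.val.app (op V)).hom x, happ V x⟩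
  show IsIso φ
  refine S12131.isIso_of_bijective_small φ fun x => ⟨⊤, trivial, fun W hW _ => ?_⟩
  haveI := FSch.Sys.toX_isClosedImmersion 𝔛 h k
  have := key _ (hW.preimage (𝔛.toX k))
  rwa [lvU_toX] at this

variable (h h') in
/-- The restriction of a direct image to a level, towards the direct image of the level. -/
def lvPsi (f : 𝔛 ⟶ 𝔜) (k : ℕ) (𝔉 : FSch.ModF 𝔛 h) :
    (FSch.pushF f h h').obj 𝔉 ⟶ (FSch.levelMor 𝔜 h' k).push.obj
      ((ModSite.RMor.ofScheme ((f : FSch.Hom 𝔛 𝔜).app k)).push.obj ((FSch.levelMor 𝔛 h k).pull.obj 𝔉)) :=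
  (FSch.pushF f h h').map ((FSch.levelMor 𝔛 h k).adj.unit.app 𝔉) ≫
    (FSch.lvPushSq f h h' k).hom.app ((FSch.levelMor 𝔛 h k).pull.obj 𝔉)

lemma mem_smul_top_of_map {R R' M N : Type*} [CommRing R] [CommRing R'] [AddCommGroup M] [Module R' M]
    [AddCommGroup N] [Module R N] (φ : R →+* R') (e : M →+ N) (he : ∀ r m, e (φ r • m) = r • e m) (K : Ideal R)
    (x : M) (hx : x ∈ K.map φ • (⊤ : Submodule R' M)) : e x ∈ K • (⊤ : Submodule R N) := by
  refine Submodule.smul_induction_on (p := fun t => e t ∈ K • (⊤ : Submodule R N)) hx (fun a ha t _ => ?_)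
    fun a b ha hb => by rw [map_add]; exact add_mem ha hb
  rw [Ideal.map] at ha
  revert t
  refine Submodule.span_induction ?_ ?_ ?_ ?_ ha
  · rintro _ ⟨b, hb, rfl⟩ t -
    rw [he]
    exact Submodule.smul_mem_smul hb Submodule.mem_top
  · intro t _
    rw [zero_smul, map_zero]
    exact zero_mem _
  · intro a b _ _ ha hb t ht
    rw [add_smul, map_add]
    exact add_mem (ha t ht) (hb t ht)
  · intro c a _ ha t ht
    rw [smul_eq_mul, mul_comm, mul_smul]
    exact ha (c • t) trivial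

lemma mem_smul_top_push (f : 𝔛 ⟶ 𝔜) (𝔉 : FSch.ModF 𝔛 h) {V : (𝔜.X 0).Opens} (K : Ideal (OR 𝔜 h' V))
    (x : 𝔉.val.obj (op (preV f V))) (hx : x ∈ K.map (shV h h' f V) • (⊤ : Submodule (OR 𝔛 h (preV f V)) (𝔉.val.obj (op (preV f V))))) :
    (show ((FSch.pushF f h h').obj 𝔉).val.obj (op V) from x) ∈
      K • (⊤ : Submodule (OR 𝔜 h' V) (((FSch.pushF f h h').obj 𝔉).val.obj (op V))) :=
  mem_smul_top_of_map (shV h h' f V)
    (AddMonoidHom.mk' (fun m : 𝔉.val.obj (op (preV f V)) => (show ((FSch.pushF f h h').obj 𝔉).val.obj (op V) from m))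
      fun _ _ => rfl) (fun _ _ => rfl) K x hx

/-- The direct image along an adic affine morphism commutes with restriction to the levels. -/
theorem isIso_symm_lvPsi (hL : 𝔛.IsLocNoethFormal) (hL' : 𝔜.IsLocNoethFormal) (f : 𝔛 ⟶ 𝔜) (hf : FSch.IsAdicHom f)
    [IsFinite ((f : FSch.Hom 𝔛 𝔜).app 0)] {𝔉 : FSch.ModF 𝔛 h} (h𝔉 : FSch.IsCohF 𝔛 h 𝔉) (k : ℕ) :
    IsIso (((FSch.levelMor 𝔜 h' k).adj.homEquiv _ _).symm (lvPsi h h' f k 𝔉)) := by
  refine isIso_symm_of_sections hL' (coh_push hL hL' f ⟨hf, inferInstance⟩ h𝔉) k _ _ fun V hV => ?_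
  have hV' : IsAffineOpen (preV f V) := hV.preimage ((f : FSch.Hom 𝔛 𝔜).app 0)
  let G := (FSch.levelMor 𝔛 h k).pull.obj 𝔉
  let S := FSch.lvPushSq f h h' k
  let η := (FSch.levelMor 𝔛 h k).adj.unit.app 𝔉
  let Sf := ((S.hom.app G).val.app (op V)).hom
  let Sg := ((S.inv.app G).val.app (op V)).hom
  have hr : ∀ y, Sf (Sg y) = y := fun y => congr(($(S.inv_hom_id_app G)).val.app (op V) y)
  have hl : ∀ y, Sg (Sf y) = y := fun y => congr(($(S.hom_inv_id_app G)).val.app (op V) y)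
  haveI := eps_isIso hL h𝔉
  refine ⟨fun g => ?_, fun x hx => ?_⟩
  · let g₀ : LM h (sysOf 𝔉) (preV f V) k := Sg g
    obtain ⟨z, hz⟩ := ((mod_main (h := h) (sysOf 𝔉) hL (sysOf_isCoh 𝔉 h𝔉) hV').2 k).1 g₀
    refine ⟨((inv (eps 𝔉)).val.app (op (preV f V))).hom z, ?_⟩
    show Sf ((η.val.app (op (preV f V))).hom (((inv (eps 𝔉)).val.app (op (preV f V))).hom z)) = g
    have e : (η.val.app (op (preV f V))).hom (((inv (eps 𝔉)).val.app (op (preV f V))).hom z) = g₀ := by
      rw [← hz, ← pm_eps]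
      exact congrArg (pm h (sysOf 𝔉) (preV f V) k) (congr(($(IsIso.inv_hom_id (eps 𝔉))).val.app (op (preV f V)) z))
    exact (congrArg Sf e).trans (hr g)
  · let x' : 𝔉.val.obj (op (preV f V)) := x
    have h0 : pm h (sysOf 𝔉) (preV f V) k (((eps 𝔉).val.app (op (preV f V))).hom x') = 0 := by
      rw [pm_eps]
      exact (hl _).symm.trans ((congrArg Sg (show Sf ((η.val.app (op (preV f V))).hom x') = 0 from hx)).trans (map_zero _))
    have h1 := (((mod_main (h := h) (sysOf 𝔉) hL (sysOf_isCoh 𝔉 h𝔉) hV').2 k).2 _).1 h0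
    have h2 : x' ∈ II 𝔛 h (preV f V) ^ (k + 1) • (⊤ : Submodule (OR 𝔛 h (preV f V)) (𝔉.val.obj (op (preV f V)))) := by
      have e : ((inv (eps 𝔉)).val.app (op (preV f V))).hom (((eps 𝔉).val.app (op (preV f V))).hom x') = x' :=
        congr(($(IsIso.hom_inv_id (eps 𝔉))).val.app (op (preV f V)) x')
      rw [← e]
      refine Submodule.smul_induction_on (p := fun t => ((inv (eps 𝔉)).val.app (op (preV f V))).hom t ∈
          II 𝔛 h (preV f V) ^ (k + 1) • (⊤ : Submodule (OR 𝔛 h (preV f V)) (𝔉.val.obj (op (preV f V))))) h1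
        (fun a ha t _ => ?_) fun a b ha hb => by rw [map_add]; exact add_mem ha hb
      refine Eq.mpr (congrArg (· ∈ _) (map_smul _ a t)) ?_
      exact Submodule.smul_mem_smul ha trivial
    rw [← II_map_adic (h := h) (h' := h') hL hL' f hf hV hV', ← Ideal.map_pow] at h2
    exact mem_smul_top_push f 𝔉 _ x' h2

end Groth.Agent.FComplBc
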