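import Groth.Agent.FComplBcLib.Level
import Groth.Agent.DCohLib.ClosedPush
import Groth.Agent.S3858
import Groth.Agent.S5737

/-!
# Base change along closed immersions of formal schemes
-/

set_option autoImplicit false
set_option linter.style.haveILetI false
set_option linter.unusedVariables false
set_option backward.isDefEq.respectTransparency false
set_option backward.isDefEq.respectTransparency.types false
set_option maxHeartbeats 1000000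
universe u

open CategoryTheory CategoryTheory.Limits AlgebraicGeometry TopologicalSpace Opposite

noncomputable section

namespace Groth.Agent.FComplBc

open Groth.Agent.FCompl Groth.Agent.FRel

theorem isIso_counit_ofScheme {X Y : Scheme.{u}} (i : X ⟶ Y) [IsClosedImmersion i] (M : X.Modules) :
    IsIso ((ModSite.RMor.ofScheme i).adj.counit.app M) := by
  haveI : ∀ M : X.Modules, IsIso ((Scheme.Modules.pullbackPushforwardAdjunction i).counit.app M) :=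
    DCohLib.isIso_counit_closedImmersion i
  exact isIso_counit_of_right_iso (ModSite.RMor.ofScheme i).adj (Scheme.Modules.pullbackPushforwardAdjunction i)
    (ModSite.RMor.ofSchemePush i) M

variable {𝔛 𝔜 : FSch.Sys.{u}} {h : 𝔛.IsFormal} {h' : 𝔜.IsFormal}

theorem coh_pull (f : 𝔛 ⟶ 𝔜) {M : FSch.ModF 𝔜 h'} (hM : FSch.IsCohF 𝔜 h' M) :
    FSch.IsCohF 𝔛 h ((FSch.pullF f h h').obj M) := by
  haveI : SheafOfModules.IsFinitePresentation (R := ModSite.ringSh (𝔜.Osh h')) M := hM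
  exact PullFlat.isFinitePresentation_pull (FSch.homMor f h h') (F := M)

/-- For a closed immersion the counit is invertible on coherent modules. -/
theorem isIso_counit (hL : 𝔛.IsLocNoethFormal) (hL' : 𝔜.IsLocNoethFormal) (f : 𝔛 ⟶ 𝔜) (hf : FSch.IsClosedImmHom f)
    {M : FSch.ModF 𝔛 h} (hM : FSch.IsCohF 𝔛 h M) : IsIso ((FSch.homMor f h h').adj.counit.app M) := by
  haveI := hf.2
  have hpush := coh_push (h := h) (h' := h') hL hL' f ⟨hf.1, inferInstance⟩ hM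
  have hpull := coh_pull (h := h) (h' := h') f hpush
  let θ : (FSch.pullF f h h').obj ((FSch.pushF f h h').obj M) ⟶ M := (FSch.homMor f h h').adj.counit.app M
  show IsIso θ
  refine isIso_of_pull (h := h) (𝔉 := (FSch.pullF f h h').obj ((FSch.pushF f h h').obj M)) (𝔊 := M) θ hL hpull hM fun k => ?_
  haveI := S5737.result f hL hL' hf.1 k
  haveI : IsIso ((ModSite.RMor.ofScheme ((f : FSch.Hom 𝔛 𝔜).app k)).adj.counit.app
      ((FSch.levelMor 𝔛 h k).pull.obj M)) := isIso_counit_ofScheme _ _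
  exact isIso_map_counit (FSch.levelMor 𝔛 h k).adj (FSch.homMor f h h').adj
    (ModSite.RMor.ofScheme ((f : FSch.Hom 𝔛 𝔜).app k)).adj (FSch.levelMor 𝔜 h' k).adj
    (FSch.lvPushSq f h h' k) M (isIso_symm_lvPsi hL hL' f hf.1 hM k)

/-- The base change map of a closed immersion is invertible on coherent modules. -/
theorem isIso_bcMapF (𝔖 𝔛 𝔜 : FSch.Sys.{u})
    (h𝔖 : 𝔖.IsLocNoethFormal) (h𝔛 : 𝔛.IsLocNoethFormal) (h𝔜 : 𝔜.IsLocNoethFormal)
    (f : 𝔛 ⟶ 𝔖) (g : 𝔜 ⟶ 𝔖) (hf : FSch.IsClosedImmHom f)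
    (hZ : (FSch.pullbackSys f g).IsLocNoethFormal)
    (𝔉 : FSch.ModF 𝔛 h𝔛.1) (h𝔉 : FSch.IsCohF 𝔛 h𝔛.1 𝔉) :
    IsIso (FSch.bcMapF (FSch.pullbackFst f g) f (FSch.pullbackSnd f g) g (FSch.pullbackSys_condition f g)
      hZ.1 h𝔛.1 h𝔜.1 h𝔖.1 𝔉) := by
  let p := FSch.pullbackFst f g
  let q := FSch.pullbackSnd f g
  haveI := hf.2
  have hq0 : IsClosedImmersion ((q : FSch.Hom _ _).app 0) :=
    MorphismProperty.of_isPullback (P := @IsClosedImmersion)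
      (IsPullback.of_hasPullback ((f : FSch.Hom _ _).app 0) ((g : FSch.Hom _ _).app 0)) hf.2
  have hq : FSch.IsClosedImmHom q := ⟨(S3858.result f g h𝔜 hf.1).2.1, hq0⟩
  haveI := hq0
  have hMo := coh_push (h := h𝔛.1) (h' := h𝔖.1) h𝔛 h𝔖 f ⟨hf.1, inferInstance⟩ h𝔉
  have hP : FSch.IsCohF (FSch.pullbackSys f g) hZ.1 ((FSch.pullF p hZ.1 h𝔛.1).obj 𝔉) := coh_pull p h𝔉
  let θ := FSch.bcMapF p f q g (FSch.pullbackSys_condition f g) hZ.1 h𝔛.1 h𝔜.1 h𝔖.1 𝔉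
  haveI := isIso_counit (h := h𝔛.1) (h' := h𝔖.1) h𝔛 h𝔖 f hf h𝔉
  haveI := isIso_counit (h := hZ.1) (h' := h𝔜.1) hZ h𝔜 q hq hP
  have hθ : θ = sqBc (FSch.homMor p hZ.1 h𝔛.1).adj (FSch.homMor g h𝔜.1 h𝔖.1).adj
      (FSch.pushSq p f q g (FSch.pullbackSys_condition f g) hZ.1 h𝔛.1 h𝔜.1 h𝔖.1) 𝔉 := by
    apply ((FSch.homMor g h𝔜.1 h𝔖.1).adj.homEquiv _ _).injective
    refine (FSch.bcMapF_transpose p f q g (FSch.pullbackSys_condition f g) hZ.1 h𝔛.1 h𝔜.1 h𝔖.1 𝔉).trans ?_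
    exact (Equiv.apply_symm_apply _ _).symm
  haveI : IsIso ((FSch.homMor q hZ.1 h𝔜.1).pull.map θ) := by
    rw [hθ]
    exact isIso_map_bc (FSch.homMor p hZ.1 h𝔛.1).adj (FSch.homMor f h𝔛.1 h𝔖.1).adj (FSch.homMor q hZ.1 h𝔜.1).adj
      (FSch.homMor g h𝔜.1 h𝔖.1).adj (FSch.pushSq p f q g (FSch.pullbackSys_condition f g) hZ.1 h𝔛.1 h𝔜.1 h𝔖.1) 𝔉
  refine isIso_of_pull θ h𝔜 (coh_pull g hMo) (coh_push hZ h𝔜 q ⟨hq.1, inferInstance⟩ hP) fun k => ?_
  haveI hfk := S5737.result f h𝔛 h𝔖 hf.1 k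
  haveI hqk := S5737.result q hZ h𝔜 hq.1 k
  let fk := (f : FSch.Hom _ _).app k
  let gk := (g : FSch.Hom _ _).app k
  let pk := (p : FSch.Hom _ _).app k
  let qk := (q : FSch.Hom _ _).app k
  let Fk : (𝔛.X k).Modules := (FSch.levelMor 𝔛 h𝔛.1 k).pull.obj 𝔉
  haveI : Coh.IsQCoh Fk := (sysOf_isCoh 𝔉 h𝔉 k).1
  haveI := isIso_symm_lvPsi (h := h𝔛.1) (h' := h𝔖.1) h𝔛 h𝔖 f hf.1 h𝔉 k
  let L : (FSch.levelMor 𝔖 h𝔖.1 k).pull.obj ((FSch.pushF f h𝔛.1 h𝔖.1).obj 𝔉) ≅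
      (ModSite.RMor.ofScheme fk).push.obj Fk :=
    asIso (((FSch.levelMor 𝔖 h𝔖.1 k).adj.homEquiv _ _).symm (lvPsi h𝔛.1 h𝔖.1 f k 𝔉))
  haveI := S12131.result fk gk pk qk (IsPullback.of_hasPullback fk gk) Fk
  let eX : (FSch.levelMor 𝔜 h𝔜.1 k).pull.obj ((FSch.pullF g h𝔜.1 h𝔖.1).obj ((FSch.pushF f h𝔛.1 h𝔖.1).obj 𝔉)) ≅
      (ModSite.RMor.ofScheme qk).push.obj ((Scheme.Modules.pullback pk).obj Fk) :=
    ((FSch.lvPullSq g h𝔜.1 h𝔖.1 k).app _).symm ≪≫ (ModSite.RMor.ofScheme gk).pull.mapIso L ≪≫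
      (ModSite.RMor.ofSchemePull gk).app _ ≪≫
      (Scheme.Modules.pullback gk).mapIso ((ModSite.RMor.ofSchemePush fk).app Fk) ≪≫
      asIso (((Scheme.Modules.pullbackPushforwardAdjunction gk).homEquiv ((Scheme.Modules.pushforward fk).obj Fk)
        ((Scheme.Modules.pushforward qk).obj ((Scheme.Modules.pullback pk).obj Fk))).symm
        ((Scheme.Modules.pushforward fk).map ((Scheme.Modules.pullbackPushforwardAdjunction pk).unit.app Fk) ≫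
          (Scheme.Modules.pushforwardComp pk fk).hom.app ((Scheme.Modules.pullback pk).obj Fk) ≫
          (Scheme.Modules.pushforwardCongr (IsPullback.of_hasPullback fk gk).w).hom.app ((Scheme.Modules.pullback pk).obj Fk) ≫
          (Scheme.Modules.pushforwardComp qk gk).inv.app ((Scheme.Modules.pullback pk).obj Fk))) ≪≫
      ((ModSite.RMor.ofSchemePush qk).app _).symm
  haveI := isIso_symm_lvPsi (h := hZ.1) (h' := h𝔜.1) hZ h𝔜 q hq.1 hP k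
  let eY : (FSch.levelMor 𝔜 h𝔜.1 k).pull.obj ((FSch.pushF q hZ.1 h𝔜.1).obj ((FSch.pullF p hZ.1 h𝔛.1).obj 𝔉)) ≅
      (ModSite.RMor.ofScheme qk).push.obj
        ((FSch.levelMor (FSch.pullbackSys f g) hZ.1 k).pull.obj ((FSch.pullF p hZ.1 h𝔛.1).obj 𝔉)) :=
    asIso (((FSch.levelMor 𝔜 h𝔜.1 k).adj.homEquiv _ _).symm (lvPsi hZ.1 h𝔜.1 q k _))
  haveI : ∀ M, IsIso ((ModSite.RMor.ofScheme qk).adj.counit.app M) := isIso_counit_ofScheme qk
  haveI : IsIso ((ModSite.RMor.ofScheme qk).pull.map ((FSch.levelMor 𝔜 h𝔜.1 k).pull.map θ)) :=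
    isIso_map_transfer (FSch.levelMor (FSch.pullbackSys f g) hZ.1 k).adj (FSch.homMor q hZ.1 h𝔜.1).adj
      (ModSite.RMor.ofScheme qk).adj (FSch.levelMor 𝔜 h𝔜.1 k).adj (FSch.lvPushSq q hZ.1 h𝔜.1 k) θ
  exact isIso_of_isIso_map (ModSite.RMor.ofScheme qk).adj eX eY ((FSch.levelMor 𝔜 h𝔜.1 k).pull.map θ)

end Groth.Agent.FComplBc
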